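import Groth.Agent.H22Alg.HomologyElt
import Mathlib.Algebra.Homology.Monoidal
import Mathlib.Algebra.Category.ModuleCat.Monoidal.Basic
import Mathlib.Algebra.Category.ModuleCat.Abelian
import Mathlib.Algebra.Category.ModuleCat.Colimits
import Mathlib.Algebra.Category.ModuleCat.Projective
import Mathlib.CategoryTheory.Preadditive.Projective.Resolution
import Mathlib.LinearAlgebra.TensorProduct.RightExactness
import Mathlib.RingTheory.Flat.Basic

/-!
# The first homology of a tensor product with a free resolution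
-/

set_option autoImplicit false

noncomputable section

open CategoryTheory Limits MonoidalCategory HomologicalComplex
open scoped TensorProduct

universe v

namespace Groth.Agent.H23TensorH1

variable {R : Type v} [CommRing R] (C P : ChainComplex (ModuleCat.{v} R) ℕ)

/-- The inclusion of a summand. -/
def inc (p q n : ℕ) (h : p + q = n) : (C.X p : Type v) ⊗[R] (P.X q : Type v) →ₗ[R] ((C ⊗ P).X n : Type v) :=
  (ιTensorObj C P p q n h).hom

/-- The elements of a degree are sums from the summands. -/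
theorem inc_iSup (n : ℕ) :
    (⨆ (p : ℕ) (q : ℕ) (h : p + q = n), LinearMap.range (inc C P p q n h)) = ⊤ := by
  set S := ⨆ (p : ℕ) (q : ℕ) (h : p + q = n), LinearMap.range (inc C P p q n h) with hS
  have h0 : ModuleCat.ofHom S.mkQ = (0 : (C ⊗ P).X n ⟶ ModuleCat.of R (((C ⊗ P).X n : Type v) ⧸ S)) := by
    refine mapBifunctor.hom_ext fun p q h => ModuleCat.hom_ext (LinearMap.ext fun x => ?_)
    refine (?_ : S.mkQ (inc C P p q n h x) = 0)
    rw [Submodule.mkQ_apply, Submodule.Quotient.mk_eq_zero, hS]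
    exact Submodule.mem_iSup_of_mem p (Submodule.mem_iSup_of_mem q (Submodule.mem_iSup_of_mem h ⟨x, rfl⟩))
  refine eq_top_iff.2 fun z _ => ?_
  have := congrArg (fun g => g.hom z) h0
  simpa using this

theorem exists_eq_add_one (z : ((C ⊗ P).X 1 : Type v)) :
    ∃ a b, z = inc C P 1 0 1 rfl a + inc C P 0 1 1 rfl b := by
  have h : z ∈ LinearMap.range (inc C P 1 0 1 rfl) ⊔ LinearMap.range (inc C P 0 1 1 rfl) := by
    refine SetLike.le_def.1 ?_ (Submodule.mem_top (x := z))
    rw [← inc_iSup C P 1]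
    refine iSup_le fun p => iSup_le fun q => iSup_le fun hpq => ?_
    rcases Nat.eq_zero_or_pos p with rfl | hp
    · obtain rfl : q = 1 := by omega
      exact le_sup_right
    · obtain rfl : p = 1 := by omega
      obtain rfl : q = 0 := by omega
      exact le_sup_left
  obtain ⟨_, ⟨a, rfl⟩, _, ⟨b, rfl⟩, rfl⟩ := Submodule.mem_sup.1 h
  exact ⟨a, b, rfl⟩

theorem exists_eq_add_two (z : ((C ⊗ P).X 2 : Type v)) :
    ∃ a b c, z = inc C P 2 0 2 rfl a + inc C P 1 1 2 rfl b + inc C P 0 2 2 rfl c := by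
  have h : z ∈ LinearMap.range (inc C P 2 0 2 rfl) ⊔ LinearMap.range (inc C P 1 1 2 rfl) ⊔
      LinearMap.range (inc C P 0 2 2 rfl) := by
    refine SetLike.le_def.1 ?_ (Submodule.mem_top (x := z))
    rw [← inc_iSup C P 2]
    refine iSup_le fun p => iSup_le fun q => iSup_le fun hpq => ?_
    obtain hp | hp | hp : p = 0 ∨ p = 1 ∨ p = 2 := by omega
    · subst hp; obtain rfl : q = 2 := by omega
      exact le_sup_right
    · subst hp; obtain rfl : q = 1 := by omega
      exact le_sup_right.trans le_sup_left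
    · subst hp; obtain rfl : q = 0 := by omega
      exact le_sup_left.trans le_sup_left
  obtain ⟨_, hab, _, ⟨c, rfl⟩, rfl⟩ := Submodule.mem_sup.1 h
  obtain ⟨_, ⟨a, rfl⟩, _, ⟨b, rfl⟩, rfl⟩ := Submodule.mem_sup.1 hab
  exact ⟨a, b, c, rfl⟩

open scoped Classical in
theorem inc_injective (p q n : ℕ) (h : p + q = n) : Function.Injective (inc C P p q n h) := by
  let r : (C ⊗ P).X n ⟶ ((curriedTensor (ModuleCat.{v} R)).obj (C.X p)).obj (P.X q) :=
    mapBifunctorDesc fun p' q' _ => if e : p' = p ∧ q' = q then eqToHom (by rw [e.1, e.2]) else 0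
  refine Function.LeftInverse.injective (g := r.hom) fun x => ?_
  have hr : ιTensorObj C P p q n h ≫ r = 𝟙 _ := by
    simp [r, ιTensorObj]
  exact congrArg (fun g => g.hom x) hr

theorem d_inc_left (p : ℕ) (x : (C.X (p + 1) : Type v) ⊗[R] (P.X 0 : Type v)) :
    (C ⊗ P).d (p + 1) p (inc C P (p + 1) 0 (p + 1) rfl x) = inc C P p 0 p rfl ((C.d (p + 1) p).hom.rTensor _ x) := by
  have h : ιTensorObj C P (p + 1) 0 (p + 1) rfl ≫ (C ⊗ P).d (p + 1) p =
      (C.d (p + 1) p ▷ P.X 0) ≫ ιTensorObj C P p 0 p rfl := by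
    change ιMapBifunctor C P _ _ _ _ _ _ ≫ (mapBifunctor C P _ _).d _ _ = _
    rw [mapBifunctor.d_eq, Preadditive.comp_add, mapBifunctor.ι_D₁, mapBifunctor.ι_D₂,
      mapBifunctor.d₁_eq _ _ _ _ (show (ComplexShape.down ℕ).Rel (p + 1) p by simp) 0 p rfl,
      mapBifunctor.d₂_eq_zero _ _ _ _ _ _ _ (by simp), add_zero]
    simp
  exact congrArg (fun g => g.hom x) h

theorem d_inc_right (q : ℕ) (x : (C.X 0 : Type v) ⊗[R] (P.X (q + 1) : Type v)) :
    (C ⊗ P).d (q + 1) q (inc C P 0 (q + 1) (q + 1) (zero_add _) x) =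
      inc C P 0 q q (zero_add _) ((P.d (q + 1) q).hom.lTensor _ x) := by
  have h : ιTensorObj C P 0 (q + 1) (q + 1) (zero_add _) ≫ (C ⊗ P).d (q + 1) q =
      (C.X 0 ◁ P.d (q + 1) q) ≫ ιTensorObj C P 0 q q (zero_add _) := by
    change ιMapBifunctor C P _ _ _ _ _ _ ≫ (mapBifunctor C P _ _).d _ _ = _
    rw [mapBifunctor.d_eq, Preadditive.comp_add, mapBifunctor.ι_D₁, mapBifunctor.ι_D₂,
      mapBifunctor.d₁_eq_zero _ _ _ _ _ _ _ (by simp), zero_add,
      mapBifunctor.d₂_eq _ _ _ _ 0 (show (ComplexShape.down ℕ).Rel (q + 1) q by simp) q (zero_add _)]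
    simp
  exact congrArg (fun g => g.hom x) h

theorem d_inc_one_one (x : (C.X 1 : Type v) ⊗[R] (P.X 1 : Type v)) :
    (C ⊗ P).d 2 1 (inc C P 1 1 2 rfl x) =
      inc C P 0 1 1 rfl ((C.d 1 0).hom.rTensor _ x) - inc C P 1 0 1 rfl ((P.d 1 0).hom.lTensor _ x) := by
  have h : ιTensorObj C P 1 1 2 rfl ≫ (C ⊗ P).d 2 1 =
      (C.d 1 0 ▷ P.X 1) ≫ ιTensorObj C P 0 1 1 rfl - (C.X 1 ◁ P.d 1 0) ≫ ιTensorObj C P 1 0 1 rfl := by
    change ιMapBifunctor C P _ _ _ _ _ _ ≫ (mapBifunctor C P _ _).d _ _ = _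
    rw [mapBifunctor.d_eq, Preadditive.comp_add, mapBifunctor.ι_D₁, mapBifunctor.ι_D₂,
      mapBifunctor.d₁_eq _ _ _ _ (show (ComplexShape.down ℕ).Rel 1 0 by simp) 1 1 rfl,
      mapBifunctor.d₂_eq _ _ _ _ 1 (show (ComplexShape.down ℕ).Rel 1 0 by simp) 1 rfl]
    simp [sub_eq_add_neg]
  exact congrArg (fun g => g.hom x) h

variable {C P} {Q : ChainComplex (ModuleCat.{v} R) ℕ} (π : P ⟶ Q)

theorem whisker_inc (p q n : ℕ) (h : p + q = n) (x : (C.X p : Type v) ⊗[R] (P.X q : Type v)) :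
    (C ◁ π).f n (inc C P p q n h x) = inc C Q p q n h ((π.f q).hom.lTensor _ x) := by
  have h' : ιTensorObj C P p q n h ≫ (C ◁ π).f n = (C.X p ◁ π.f q) ≫ ιTensorObj C Q p q n h := by
    change ιMapBifunctor C P _ _ _ _ _ _ ≫ (mapBifunctorMap (𝟙 C) π _ _).f n = _
    simp
  exact congrArg (fun g => g.hom x) h'

/-- The criterion. -/
theorem isIso_homologyMap_one [Module.Flat R (C.X 0 : Type v)] (π : P ⟶ Q)
    (hQ : ∀ n, IsZero (Q.X (n + 1)))
    (hπ : Function.Surjective (π.f 0).hom)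
    (hex0 : Function.Exact (P.d 1 0).hom (π.f 0).hom)
    (hex1 : Function.Exact (P.d 2 1).hom (P.d 1 0).hom) :
    IsIso (HomologicalComplex.homologyMap (C ◁ π) 1) := by
  have hj : (ComplexShape.down ℕ).prev 1 = 2 := ChainComplex.prev ℕ 1
  have hk : (ComplexShape.down ℕ).next 1 = 0 := ChainComplex.next_nat_succ 0
  have hzero : ∀ (p q n : ℕ) (h : p + (q + 1) = n) (x), inc C Q p (q + 1) n h x = 0 := fun p q n h x => by
    have : Subsingleton (Q.X (q + 1) : Type v) := ModuleCat.subsingleton_of_isZero (hQ q)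
    rw [Subsingleton.elim x 0, map_zero]
  have hdd : ∀ n m l (z : ((C ⊗ P).X n : Type v)), (C ⊗ P).d m l ((C ⊗ P).d n m z) = 0 := fun n m l z => by
    rw [← ModuleCat.comp_apply, HomologicalComplex.d_comp_d]; rfl
  have : Epi (HomologicalComplex.homologyMap (C ◁ π) 1) := by
    rw [H22Alg.HomologyElt.epi_homologyMap_iff _ hj hk]
    intro z hz
    obtain ⟨x, b, rfl⟩ := exists_eq_add_one C Q z
    rw [hzero 0 0 1 rfl, add_zero] at hz ⊢
    obtain ⟨x', rfl⟩ := LinearMap.lTensor_surjective (C.X 1 : Type v) hπ x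
    set w := (C.d 1 0).hom.rTensor (P.X 0 : Type v) x' with hw
    have hw0 : (π.f 0).hom.lTensor _ w = 0 := by
      refine inc_injective C Q 0 0 0 rfl ?_
      rw [map_zero, hw, ← hz, d_inc_left C Q 0]
      congr 1
      rw [← LinearMap.comp_apply, LinearMap.lTensor_comp_rTensor, ← LinearMap.rTensor_comp_lTensor]
      rfl
    obtain ⟨y, hy⟩ := (lTensor_exact (C.X 0 : Type v) hex0 hπ w).1 hw0
    refine ⟨inc C P 1 0 1 rfl x' - inc C P 0 1 1 rfl y, 0, ?_, ?_⟩
    · rw [map_sub, d_inc_left C P 0, d_inc_right C P 0, hy, ← hw]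
      exact sub_self _
    · rw [map_zero, add_zero, map_sub, whisker_inc, whisker_inc, hzero 0 0 1 rfl, sub_zero]
  have : Mono (HomologicalComplex.homologyMap (C ◁ π) 1) := by
    rw [H22Alg.HomologyElt.mono_homologyMap_iff _ hj hk]
    intro z hz v hv
    obtain ⟨u, b₁, b₂, rfl⟩ := exists_eq_add_two C Q v
    rw [hzero 1 0 2 rfl, hzero 0 1 2 rfl, add_zero, add_zero] at hv
    obtain ⟨u', rfl⟩ := LinearMap.lTensor_surjective (C.X 2 : Type v) hπ u
    set z₁ := z - (C ⊗ P).d 2 1 (inc C P 2 0 2 rfl u') with hz₁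
    have hcyc : (C ⊗ P).d 1 0 z₁ = 0 := by rw [hz₁, map_sub, hz, hdd, sub_zero]
    have hF : (C ◁ π).f 1 z₁ = 0 := by
      rw [hz₁, map_sub, sub_eq_zero, ← hv, ← ModuleCat.comp_apply, ← (C ◁ π).comm, ModuleCat.comp_apply,
        whisker_inc]
    obtain ⟨a, b, hab⟩ := exists_eq_add_one C P z₁
    rw [hab, map_add, whisker_inc, whisker_inc, hzero 0 0 1 rfl, add_zero] at hF
    have ha : (π.f 0).hom.lTensor _ a = 0 := inc_injective C Q 1 0 1 rfl (by rw [hF, map_zero])
    obtain ⟨c, rfl⟩ := (lTensor_exact (C.X 1 : Type v) hex0 hπ a).1 ha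
    set b' := b + (C.d 1 0).hom.rTensor (P.X 1 : Type v) c with hb'
    have hz₂ : z₁ + (C ⊗ P).d 2 1 (inc C P 1 1 2 rfl c) = inc C P 0 1 1 rfl b' := by
      rw [hab, d_inc_one_one, hb', map_add]
      abel
    have hb0 : (P.d 1 0).hom.lTensor _ b' = 0 := by
      refine inc_injective C P 0 0 0 rfl ?_
      rw [map_zero, ← d_inc_right C P 0, ← hz₂, map_add, hcyc, hdd, add_zero]
    obtain ⟨e, he⟩ := (Module.Flat.lTensor_exact (C.X 0 : Type v) hex1 b').1 hb0
    refine ⟨inc C P 2 0 2 rfl u' - inc C P 1 1 2 rfl c + inc C P 0 2 2 rfl e, ?_⟩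
    rw [map_add, map_sub, d_inc_right C P 1, he, ← hz₂, hz₁]
    abel
  exact isIso_of_mono_of_epi _

/-- The case of a free resolution. -/
theorem isIso_of_resolution (C P : ChainComplex (ModuleCat.{v} R) ℕ) (G : ModuleCat.{v} R)
    [Module.Free R (C.X 0)] [∀ q, Module.Free R (P.X q)]
    (π : P ⟶ (ChainComplex.single₀ (ModuleCat.{v} R)).obj G) [QuasiIso π] :
    IsIso (HomologicalComplex.homologyMap (C ◁ π) 1) := by
  have : ∀ n, Projective (P.X n) := fun n => ModuleCat.projective_of_free (Module.Free.chooseBasis R (P.X n))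
  let res : ProjectiveResolution G := { complex := P, π := π }
  refine isIso_homologyMap_one π (fun n => HomologicalComplex.isZero_single_obj_X _ _ _ _ (by simp)) ?_ ?_ ?_
  · exact (ModuleCat.epi_iff_surjective _).1 (epi_of_isColimit_cofork res.isColimitCokernelCofork)
  · have := ShortComplex.exact_of_g_is_cokernel
      (ShortComplex.mk _ _ res.complex_d_comp_π_f_zero) res.isColimitCokernelCofork
    exact (ShortComplex.ShortExact.moduleCat_exact_iff_function_exact _).1 this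
  · exact (ShortComplex.ShortExact.moduleCat_exact_iff_function_exact _).1 (res.exact_succ 0)

end Groth.Agent.H23TensorH1
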